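import Cfsg.Agent.Lib.Recog.SporBound.Fi22C.Data

set_option autoImplicit false
set_option maxRecDepth 20000

/-! Checks of the certificate, part 2. -/

namespace CfsgLib.Recog.SporBound.Fi22C
open CfsgLib.Recog.SporBound
open CfsgLib.ThreeTrans.CosetIndex (forallFrom)

theorem steps2 : cert.stepsPart 120 60 = true := by decide +kernel

theorem steps3 : cert.stepsPart 180 60 = true := by decide +kernel

theorem steps4 : cert.stepsPart 240 60 = true := by decide +kernel

theorem steps5 : cert.stepsPart 300 10 = true := by decide +kernel

end CfsgLib.Recog.SporBound.Fi22C
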