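import Cfsg.Agent.Lib.Recog.SporBound.Sound
import Cfsg.Agent.Lib.Recog.SporBound.Fi22C.Tree0
import Cfsg.Agent.Lib.Recog.SporBound.Fi22C.Tree1
import Cfsg.Agent.Lib.Recog.SporBound.Fi22C.Tree2
import Cfsg.Agent.Lib.Recog.SporBound.Fi22C.Tree3
import Cfsg.Agent.Lib.Recog.SporBound.Fi22C.Tree4

set_option autoImplicit false
set_option maxRecDepth 20000

/-! Generated closure certificate: presented Fi22, <b..i> over <b..h> (owner: lead). -/

namespace CfsgLib.Recog.SporBound.Fi22C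
open CfsgLib.Recog.SporBound

noncomputable def factTree : Q (ℕ) := (.node (.node ft14 ft29 ft43 ft57) (.node ft72 ft87 ft101 ft115) (.node ft130 ft145 ft159 ft173) (.node ft188 ft202 ft216 ft230))
noncomputable def nodeTree : Q (ℕ) := (.node ct7 ct14 ct21 ct28)
noncomputable def stepTree : Q (List ℕ) := (.node (.node (.node st5 st11 st17 st23) (.node st29 st35 st41 st47) (.node st53 st59 st65 st70) (.node st76 st82 st88 st93)) (.node (.node st99 st105 st111 st117) (.node st123 st129 st135 st141) (.node st147 st153 st159 st164) (.node st170 st176 st182 st187)) (.node (.node st193 st199 st205 st211) (.node st217 st223 st229 st234) (.node st240 st246 st252 st257) (.node st263 st269 st275 st280)) (.node (.node st286 st292 st298 st304) (.node st310 st316 st322 st327) (.node st333 st339 st345 st350) (.node st356 st362 st368 st373)))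
noncomputable def finalTree : Q (List ℕ) := (.node (.node (.node et7 et14 et21 et28) (.node et36 et43 et50 et57) (.node et65 et72 et79 et86) (.node et93 et100 et107 et114)) (.node (.node et122 et129 et136 et143) (.node et151 et158 et165 et172) (.node et180 et187 et194 et201) (.node et208 et215 et222 et229)) (.node (.node et237 et244 et251 et258) (.node et266 et273 et280 et287) (.node et295 et302 et309 et316) (.node et323 et330 et337 et344)) (.node (.node et352 et359 et366 et373) (.node et381 et388 et395 et402) (.node et409 et416 et423 et430) (.node et437 et444 et451 et458)))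

/-- The certificate. -/
noncomputable def cert : Cert where
  n := 3159
  nd := 7651
  nf := 27430
  kl := [1, 2, 3, 4, 5, 6, 7, 8]
  facts := factTree
  cn := nodeTree
  steps := stepTree
  finals := finalTree
  rels := [[1, 1], [2, 2], [3, 3], [4, 4], [5, 5], [6, 6], [7, 7], [8, 8], [1, 2, 1, 2, 1, 2], [1, 3, 1, 3], [1, 4, 1, 4], [1, 5, 1, 5], [1, 6, 1, 6], [1, 7, 1, 7], [1, 8, 1, 8], [2, 3, 2, 3, 2, 3], [2, 4, 2, 4], [2, 5, 2, 5], [2, 6, 2, 6], [2, 7, 2, 7], [2, 8, 2, 8], [3, 4, 3, 4, 3, 4], [3, 5, 3, 5], [3, 6, 3, 6], [3, 7, 3, 7, 3, 7], [3, 8, 3, 8], [4, 5, 4, 5, 4, 5], [4, 6, 4, 6], [4, 7, 4, 7], [4, 8, 4, 8], [5, 6, 5, 6, 5, 6], [5, 7, 5, 7], [5, 8, 5, 8], [6, 7, 6, 7], [6, 8, 6, 8], [7, 8, 7, 8, 7, 8], [3, 2, 1, 3, 4, 5, 3, 7, 8, 3, 2, 1, 3, 4, 5, 3, 7, 8, 3, 2, 1, 3, 4, 5, 3, 7, 8, 3, 2, 1, 3, 4, 5, 3, 7, 8, 3, 2, 1, 3, 4, 5, 3, 7, 8, 3, 2, 1, 3, 4, 5, 3, 7, 8, 3, 2, 1, 3, 4, 5, 3, 7, 8, 3, 2, 1, 3, 4, 5,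 3, 7, 8, 3, 2, 1, 3, 4, 5, 3, 7, 8, 3, 2, 1, 3, 4, 5, 3, 7, 8], [1, 2, 3, 4, 5, 6, 7, 1, 2, 3, 4, 5, 6, 7, 1, 2, 3, 4, 5, 6, 7, 1, 2, 3, 4, 5, 6, 7, 1, 2, 3, 4, 5, 6, 7, 1, 2, 3, 4, 5, 6, 7, 1, 2, 3, 4, 5, 6, 7, 1, 2, 3, 4, 5, 6, 7, 1, 2, 3, 4, 5, 6, 7]]
  subs := [[1], [2], [3], [4], [5], [6], [7]]

/-- Chains of the traced words. -/
noncomputable def closers : List ℕ := []

end CfsgLib.Recog.SporBound.Fi22C
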