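import Cfsg.Agent.Lib.Recog.SporBound.Fi22C.Data

set_option autoImplicit false
set_option maxRecDepth 20000

/-! Checks of the certificate, part 0. -/

namespace CfsgLib.Recog.SporBound.Fi22C
open CfsgLib.Recog.SporBound
open CfsgLib.ThreeTrans.CosetIndex (forallFrom)

theorem defs0 : forallFrom cert.defOK 0 1500 = true := by decide +kernel

theorem defs1 : forallFrom cert.defOK 1500 1500 = true := by decide +kernel

theorem defs2 : forallFrom cert.defOK 3000 1500 = true := by decide +kernel

theorem defs3 : forallFrom cert.defOK 4500 1500 = true := by decide +kernel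

end CfsgLib.Recog.SporBound.Fi22C
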